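import Mathlib
import Cfsg.Prelude.Def_Transfer
import Cfsg.Agent.S3041
import Cfsg.Agent.Lib.Fusion.Saturation
import Cfsg.Agent.Lib.PLocal.Natural.Main

/-!
In a group `A` of automorphisms of a `p`-group, of order prime to `r` and normalized by a fixed
point free automorphism `a` of order `r`, a `p`-subgroup consisting of commutators with `a` lies in
`O_p(A)`.
-/

set_option autoImplicit false

namespace Cfsg.Agent.FpfFusion

open Cfsg
open scoped commutatorElement

universe u

variable {p : ℕ} [hp : Fact p.Prime] {r : ℕ}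

theorem isPGroup_zpowers_of_pow {G : Type*} [Group G] {g : G} {l k : ℕ} (h : g ^ l ^ k = 1) :
    IsPGroup l (Subgroup.zpowers g) := by
  rintro ⟨x, hx⟩
  obtain ⟨m, rfl⟩ := Subgroup.mem_zpowers_iff.1 hx
  refine ⟨k, Subtype.ext ?_⟩
  rw [Subgroup.coe_pow]
  show (g ^ m) ^ l ^ k = 1
  rw [← zpow_natCast (g ^ m), ← zpow_mul, mul_comm, zpow_mul, zpow_natCast, h, one_zpow]

/-- A fixed point free automorphism of prime order `r ≠ p` fixes no nontrivial coset. -/
theorem fixed_coset {J : Type*} [Group J] [Finite J] (hJ : IsPGroup p J) (hr : r.Prime) (hrp : r ≠ p)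
    {a : MulAut J} (har : a ^ r = 1) (hfix : ∀ x, a x = x → x = 1) {M : Subgroup J}
    (hM : ∀ m ∈ M, a m ∈ M) {x : J} (hx : x⁻¹ * a x ∈ M) : x ∈ M := by
  haveI : Fact r.Prime := ⟨hr⟩
  let C : Set J := {y | x⁻¹ * y ∈ M}
  have hC : ∀ y ∈ C, a y ∈ C := fun y hy => by
    have h1 := M.mul_mem hx (hM _ hy)
    rwa [map_mul, map_inv, mul_assoc, mul_inv_cancel_left] at h1
  have hmem : ∀ g : Subgroup.zpowers a, ∀ y ∈ C, (g : MulAut J) y ∈ C := by
    rintro ⟨g, hg⟩ y hy
    obtain ⟨k, rfl⟩ := mem_powers_iff_mem_zpowers.2 hg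
    show (a ^ k) y ∈ C
    induction k with
    | zero => exact hy
    | succ k ih =>
      rw [pow_succ', MulAut.mul_apply]
      exact hC _ (ih (mem_powers_iff_mem_zpowers.1 ⟨k, rfl⟩))
  let _ : MulAction (Subgroup.zpowers a) C :=
    { smul := fun g y => ⟨(g : MulAut J) y, hmem g y y.2⟩
      one_smul := fun y => rfl
      mul_smul := fun g h y => rfl }
  have hcard : Nat.card C = Nat.card M := Nat.card_congr
    { toFun := fun y => ⟨x⁻¹ * y, y.2⟩
      invFun := fun m => ⟨x * m, by show x⁻¹ * (x * m) ∈ M; rw [inv_mul_cancel_left]; exact m.2⟩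
      left_inv := fun y => Subtype.ext (mul_inv_cancel_left x y)
      right_inv := fun m => Subtype.ext (inv_mul_cancel_left x m) }
  have hnd : ¬ r ∣ Nat.card C := fun h => by
    obtain ⟨e, he⟩ := IsPGroup.iff_card.1 (hJ.to_subgroup M)
    rw [hcard, he] at h
    exact hrp ((Nat.prime_dvd_prime_iff_eq hr Fact.out).1 (hr.dvd_of_dvd_pow h))
  obtain ⟨⟨y, hy⟩, hyfix⟩ :=
    (isPGroup_zpowers_of_pow (l := r) (k := 1) (by rw [pow_one, har])).nonempty_fixed_point_of_prime_not_dvd_card C hnd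
  have h1 : y = 1 := hfix y (congrArg Subtype.val (hyfix ⟨a, Subgroup.mem_zpowers a⟩))
  have h2 : x⁻¹ * y ∈ M := hy
  rw [h1, mul_one, inv_mem_iff] at h2
  exact h2

theorem le_pCore_of_normal {G : Type*} [Group G] {N : Subgroup G} (hn : N.Normal) (hNp : IsPGroup p N) :
    N ≤ pCore p G :=
  le_sSup (show N ∈ {N : Subgroup G | N.Normal ∧ IsPGroup p N} from ⟨hn, hNp⟩)

/-- The automorphisms preserving a subgroup. -/
def stabSub {J : Type*} [Group J] (M : Subgroup J) : Subgroup (MulAut J) where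
  carrier := {g | ∀ w, g w ∈ M ↔ w ∈ M}
  one_mem' := fun _ => Iff.rfl
  mul_mem' {g h} hg hh := fun w => (hg (h w)).trans (hh w)
  inv_mem' {g} hg := fun w => by rw [← hg (g⁻¹ w), MulAut.apply_inv_self]

theorem mem_stabSub {J : Type*} [Group J] [Finite J] {M : Subgroup J} {g : MulAut J}
    (h : ∀ m ∈ M, g m ∈ M) : g ∈ stabSub M := by
  intro w
  refine ⟨fun hw => ?_, h w⟩
  have hbij : Function.Surjective (fun m : M => (⟨g m, h m m.2⟩ : M)) :=
    Finite.injective_iff_surjective.1 fun m n e => Subtype.ext (g.injective (congrArg Subtype.val e))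
  obtain ⟨m, hm⟩ := hbij ⟨g w, hw⟩
  have h1 : g m = g w := congrArg Subtype.val hm
  exact g.injective h1 ▸ m.2

/-- Restriction to an invariant subgroup. -/
def restrictSub {J : Type*} [Group J] (M : Subgroup J) : stabSub M →* MulAut M :=
  MonoidHom.mk' (fun g =>
    { toFun := fun w => ⟨(g : MulAut J) w, (g.2 w).2 w.2⟩
      invFun := fun w => ⟨(g : MulAut J).symm w, (g.2 _).1 (by rw [MulEquiv.apply_symm_apply]; exact w.2)⟩
      left_inv := fun w => Subtype.ext ((g : MulAut J).symm_apply_apply w)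
      right_inv := fun w => Subtype.ext ((g : MulAut J).apply_symm_apply w)
      map_mul' := fun v w => Subtype.ext (map_mul (g : MulAut J) (v : J) (w : J)) })
    fun _ _ => rfl

set_option maxHeartbeats 1000000 in
theorem le_pCore_of_commutators (hp2' : p ≠ 2) (hr : r.Prime) (hrp : r ≠ p) :
    ∀ (n : ℕ) (J : Type u) [Group J] [Finite J], IsPGroup p J → Nat.card J = n →
      ∀ (A : Subgroup (MulAut J)) (a : MulAut J), a ^ r = 1 → (∀ x, a x = x → x = 1) →
        (∀ g ∈ A, a * g * a⁻¹ ∈ A) → ¬ r ∣ Nat.card A → ∀ T : Subgroup (MulAut J), T ≤ A →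
          IsPGroup p T → (∀ t ∈ T, ∃ u ∈ T, t = u⁻¹ * (a * u * a⁻¹)) →
            ∀ t ∈ T, t ∈ (pCore p A).map A.subtype := by
  intro n
  induction n using Nat.strong_induction_on with
  | _ n ih =>
  intro J _ _ hJ hn A a har hfix haA hA T hTA hTp hTc t ht
  classical
  rcases subsingleton_or_nontrivial J with hsub | hnt
  · rw [show t = 1 from MulEquiv.ext fun x => Subsingleton.elim _ _]
    exact Subgroup.one_mem _
  -- a minimal invariant central subgroup of exponent `p`
  let Z₁ : Subgroup J :=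
    { carrier := {x | x ∈ Subgroup.center J ∧ x ^ p = 1}
      one_mem' := ⟨Subgroup.one_mem _, one_pow p⟩
      mul_mem' := fun {x y} hx hy => ⟨Subgroup.mul_mem _ hx.1 hy.1, by
        rw [(show Commute x y from (Subgroup.mem_center_iff.1 hx.1 y).symm).mul_pow, hx.2, hy.2, one_mul]⟩
      inv_mem' := fun {x} hx => ⟨Subgroup.inv_mem _ hx.1, by rw [inv_pow, hx.2, inv_one]⟩ }
  let X : Subgroup (MulAut J) := A ⊔ Subgroup.zpowers a
  let Inv : Set (Subgroup J) := {M | M ≤ Z₁ ∧ M ≠ ⊥ ∧ ∀ g ∈ X, ∀ m ∈ M, g m ∈ M}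
  have hInv : Inv.Nonempty := by
    refine ⟨Z₁, le_rfl, ?_, fun g _ m hm => ⟨?_, by rw [← map_pow, hm.2, map_one]⟩⟩
    · haveI := hJ.center_nontrivial
      have hdvd : p ∣ Nat.card (Subgroup.center J) := by
        obtain ⟨e, he⟩ := IsPGroup.iff_card.1 (hJ.to_subgroup (Subgroup.center J))
        rw [he]
        refine dvd_pow_self p fun e0 => ?_
        rw [e0, pow_zero] at he
        exact Finite.one_lt_card.ne' he
      obtain ⟨z, hz⟩ := exists_prime_orderOf_dvd_card' p hdvd
      intro e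
      have h1 : (z : J) ∈ Z₁ := ⟨z.2, by
        rw [← Subgroup.coe_pow, ← hz, pow_orderOf_eq_one]; rfl⟩
      rw [e, Subgroup.mem_bot] at h1
      rw [show z = 1 from Subtype.ext h1, orderOf_one] at hz
      exact (Fact.out : p.Prime).ne_one hz.symm
    · refine Subgroup.mem_center_iff.2 fun y => ?_
      have h1 := congrArg g (Subgroup.mem_center_iff.1 hm.1 (g⁻¹ y))
      rwa [map_mul, map_mul, MulAut.apply_inv_self] at h1
  obtain ⟨M, ⟨hMZ, hM1, hMX⟩, hmin⟩ := Set.exists_min_image Inv (fun M => Nat.card M) (Set.toFinite _) hInv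
  have hMn : M.Normal := ⟨fun m hm g => by
    rw [Subgroup.mem_center_iff.1 (hMZ hm).1 g, mul_inv_cancel_right]; exact hm⟩
  letI : CommGroup M :=
    { (inferInstance : Group M) with
      mul_comm := fun x y => Subtype.ext (Subgroup.mem_center_iff.1 (hMZ y.2).1 x) }
  letI : Module (ZMod p) (Additive M) := AddCommGroup.zmodModule (n := p) (G := Additive M)
    (fun v => congrArg Additive.ofMul (Subtype.ext (hMZ v.toMul.2).2 : v.toMul ^ p = 1))
  haveI : Nontrivial M := (Subgroup.nontrivial_iff_ne_bot M).2 hM1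
  haveI : Nontrivial (Additive M) := inferInstanceAs (Nontrivial M)
  have hXst : X ≤ stabSub M := fun g hg => mem_stabSub fun m hm => hMX g hg m hm
  have haX : a ∈ X := Subgroup.mem_sup_right (Subgroup.mem_zpowers a)
  have hAX : A ≤ X := le_sup_left
  let θ : X →* MulAut M := (restrictSub M).comp (Subgroup.inclusion hXst)
  set Xb := θ.range with hXb
  let Gb : Subgroup Xb := (A.subgroupOf X).map θ.rangeRestrict
  let ab : Xb := θ.rangeRestrict ⟨a, haX⟩
  have hAn : (A.subgroupOf X).Normal := by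
    have h1 : X ≤ Subgroup.normalizer (A : Set (MulAut J)) := by
      refine sup_le Subgroup.le_normalizer (Subgroup.zpowers_le.2 ?_)
      haveI : Finite A := inferInstance
      exact Fusion.Saturation.mem_normalizer_of_forall haA
    exact (Subgroup.normal_subgroupOf_iff_le_normalizer hAX).2 h1
  have hGn : Gb.Normal := hAn.map _ θ.rangeRestrict_surjective
  have habfix : ∀ v : M, ((ab : Xb) : MulAut M) v = v → v = 1 := fun v hv =>
    Subtype.ext (hfix _ (congrArg Subtype.val hv))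
  haveI : Fact r.Prime := ⟨hr⟩
  have habord : orderOf ab = r := by
    refine orderOf_eq_prime ?_ fun e => ?_
    · rw [← map_pow, show (⟨a, haX⟩ : X) ^ r = 1 from Subtype.ext har, map_one]
    · obtain ⟨v, hv⟩ := exists_ne (1 : M)
      exact hv (habfix v (by rw [e]; rfl))
  have hgen : Gb ⊔ Subgroup.zpowers ab = ⊤ := by
    refine eq_top_iff.2 fun y _ => ?_
    obtain ⟨⟨g, hg⟩, rfl⟩ := θ.rangeRestrict_surjective y
    have h1 : (⟨g, hg⟩ : X) ∈ A.subgroupOf X ⊔ Subgroup.zpowers (⟨a, haX⟩ : X) := by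
      have h2 : A.subgroupOf X ⊔ Subgroup.zpowers (⟨a, haX⟩ : X) = ⊤ := by
        refine Subgroup.map_injective X.subtype_injective ?_
        rw [Subgroup.map_sup, Subgroup.map_subgroupOf_eq_of_le hAX, MonoidHom.map_zpowers,
          ← MonoidHom.range_eq_map, Subgroup.range_subtype]
        rfl
      rw [h2]; exact Subgroup.mem_top _
    have h3 := Subgroup.mem_map_of_mem θ.rangeRestrict h1
    rwa [Subgroup.map_sup, MonoidHom.map_zpowers] at h3
  let ρ : Representation (ZMod p) Xb (Additive M) := FFNatural.actRep Xb.subtype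
  have hshult := S3041.result Gb (Subgroup.zpowers ab) hgen r hr (by rw [Nat.card_zpowers, habord])
    (fun h => hA (h.trans ((Subgroup.card_map_dvd _ _).trans (dvd_of_eq
      (Nat.card_congr (Subgroup.subgroupOfEquivOfLe hAX).toEquiv))))) ρ
    (fun g h e => Subtype.ext (MulEquiv.ext fun v =>
      congrArg Additive.toMul (LinearMap.congr_fun e (Additive.ofMul v))))
    (fun W hW => by
      -- irreducibility
      let U : Subgroup J := ((Submodule.toAddSubgroup W).toSubgroup').map M.subtype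
      by_cases hU : U = ⊥
      · left
        refine (Submodule.eq_bot_iff W).2 fun v hv => ?_
        have h1 : ((v.toMul : M) : J) ∈ U := ⟨v.toMul, hv, rfl⟩
        rw [hU, Subgroup.mem_bot] at h1
        exact congrArg Additive.ofMul (Subtype.ext h1 : v.toMul = (1 : M))
      · right
        have hUM : U ≤ M := Subgroup.map_subtype_le _
        have hstab : ∀ g ∈ X, ∀ m ∈ U, g m ∈ U := by
          rintro g hg _ ⟨w, hw, rfl⟩
          exact ⟨⟨g w, hMX g hg w w.2⟩, hW (θ.rangeRestrict ⟨g, hg⟩) ⟨_, hw, rfl⟩, rfl⟩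
        have h1 := hmin U ⟨hUM.trans hMZ, hU, hstab⟩
        have h2 : U = M := Subgroup.eq_of_le_of_card_ge hUM h1
        refine eq_top_iff.2 fun v _ => ?_
        obtain ⟨w, hw, hwv⟩ : ((v.toMul : M) : J) ∈ U := h2.symm ▸ v.toMul.2
        rw [Subtype.ext hwv] at hw
        exact hw)
    (fun v hv => congrArg Additive.ofMul (habfix v.toMul
      (congrArg Additive.toMul (hv ab (Subgroup.mem_zpowers ab)))))
  -- `T` centralizes `M`
  have hTM : ∀ t ∈ T, ∀ m ∈ M, t m = m := by
    intro t ht m hm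
    obtain ⟨u, hu, hue⟩ := hTc t ht
    set tb : Xb := θ.rangeRestrict ⟨t, hAX (hTA ht)⟩ with htb
    have h1 : tb ∈ ⁅Gb, Subgroup.zpowers ab⁆ := by
      have h2 : tb = ⁅(θ.rangeRestrict ⟨u, hAX (hTA hu)⟩)⁻¹, ab⁆ := by
        rw [commutatorElement_def, inv_inv, ← map_inv, ← map_inv, ← map_mul, ← map_mul, ← map_mul]
        refine congrArg θ.rangeRestrict (Subtype.ext ?_)
        show t = u⁻¹ * a * u * a⁻¹
        rw [hue]; group
      rw [h2]
      exact Subgroup.commutator_mem_commutator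
        (Gb.inv_mem ⟨⟨u, hAX (hTA hu)⟩, hTA hu, rfl⟩) (Subgroup.mem_zpowers ab)
    suffices h : tb = 1 by
      exact congrArg (fun e : Xb => (((e : MulAut M) ⟨m, hm⟩ : M) : J)) h
    rcases hshult with hb | ⟨-, -, hsp, -, -⟩
    · rwa [hb, Subgroup.mem_bot] at h1
    · obtain ⟨k, hk⟩ := hsp ⟨tb, h1⟩
      obtain ⟨l, hl⟩ := hTp ⟨t, ht⟩
      have h3 : tb ^ 2 ^ k = 1 := congrArg Subtype.val hk
      have h4 : tb ^ p ^ l = 1 := by
        rw [htb, ← map_pow, show (⟨t, hAX (hTA ht)⟩ : X) ^ p ^ l = 1 from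
          Subtype.ext (by simpa using congrArg Subtype.val hl), map_one]
      refine orderOf_eq_one_iff.1 (Nat.eq_one_of_dvd_coprimes ?_ (orderOf_dvd_of_pow_eq_one h4)
        (orderOf_dvd_of_pow_eq_one h3))
      exact Nat.Coprime.pow _ _ ((Nat.coprime_primes Fact.out Nat.prime_two).2 hp2')
  -- the quotient
  have hmapM : ∀ g : X, M.map ((g : MulAut J) : J →* J) = M := fun g => by
    refine le_antisymm (fun _ ⟨m, hm, he⟩ => he ▸ hMX g g.2 m hm) fun m hm => ?_
    exact ⟨(g : MulAut J)⁻¹ m, hMX _ (X.inv_mem g.2) m hm, MulAut.apply_inv_self J _ _⟩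
  let π : X →* MulAut (J ⧸ M) := MonoidHom.mk'
    (fun g => QuotientGroup.congr M M (g : MulAut J) (hmapM g))
    fun g h => MulEquiv.ext fun y => by
      obtain ⟨x, rfl⟩ := QuotientGroup.mk_surjective y
      rfl
  set Ab := (A.subgroupOf X).map π with hAb
  have hlt : Nat.card (J ⧸ M) < n := by
    rw [← hn, Subgroup.card_eq_card_quotient_mul_card_subgroup M]
    exact lt_mul_of_one_lt_right Nat.card_pos Finite.one_lt_card
  have hq := ih _ hlt (J ⧸ M) (hJ.to_quotient M) rfl Ab (π ⟨a, haX⟩)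
    (by rw [← map_pow, show (⟨a, haX⟩ : X) ^ r = 1 from Subtype.ext har, map_one])
    (fun y hy => by
      obtain ⟨x, rfl⟩ := QuotientGroup.mk_surjective y
      refine (QuotientGroup.eq_one_iff x).2 (fixed_coset hJ hr hrp har hfix (fun m hm => hMX a haX m hm) ?_)
      exact QuotientGroup.eq.1 hy.symm)
    (by
      rintro _ ⟨g, hg, rfl⟩
      exact ⟨⟨a, haX⟩ * g * ⟨a, haX⟩⁻¹, haA _ hg, by rw [map_mul, map_mul, map_inv]⟩)
    (fun h => hA (h.trans ((Subgroup.card_map_dvd _ _).trans (dvd_of_eq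
      (Nat.card_congr (Subgroup.subgroupOfEquivOfLe hAX).toEquiv)))))
    ((T.subgroupOf X).map π) (Subgroup.map_mono (Subgroup.comap_mono hTA))
    ((hTp.comap_of_injective X.subtype Subtype.val_injective).map π)
    (by
      rintro _ ⟨s, hs, rfl⟩
      obtain ⟨u, hu, hue⟩ := hTc _ hs
      refine ⟨π ⟨u, hAX (hTA hu)⟩, ⟨_, hu, rfl⟩, ?_⟩
      rw [← map_inv, ← map_inv, ← map_mul, ← map_mul, ← map_mul]
      exact congrArg π (Subtype.ext hue))
  -- the normal `p`-subgroup
  let ι : A →* X := Subgroup.inclusion hAX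
  let K := (pCore p Ab).map Ab.subtype
  let N : Subgroup A :=
    { carrier := {g | (∀ m ∈ M, (g : MulAut J) m = m) ∧ π (ι g) ∈ K}
      one_mem' := ⟨fun _ _ => rfl, by rw [map_one, map_one]; exact K.one_mem⟩
      mul_mem' := fun {g h} hg hh => ⟨fun m hm => by
        rw [Subgroup.coe_mul, MulAut.mul_apply, hh.1 m hm, hg.1 m hm],
        by rw [map_mul, map_mul]; exact K.mul_mem hg.2 hh.2⟩
      inv_mem' := fun {g} hg => ⟨fun m hm => by
        conv_lhs => rw [← hg.1 m hm]
        rw [Subgroup.coe_inv, MulAut.inv_apply_self],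
        by rw [map_inv, map_inv]; exact K.inv_mem hg.2⟩ }
  have hKp : IsPGroup p K := (Sylow.sSup_of_normal _ (fun _ h => h.2) fun _ h => h.1).map _
  have hN : N.Normal := by
    refine ⟨fun g hg h => ⟨fun m hm => ?_, ?_⟩⟩
    · rw [Subgroup.coe_mul, Subgroup.coe_mul, Subgroup.coe_inv, MulAut.mul_apply, MulAut.mul_apply,
        hg.1 _ (hMX _ (X.inv_mem (hAX h.2)) m hm), MulAut.apply_inv_self]
    · obtain ⟨k, hk, hke⟩ := hg.2
      have hn' : (pCore p Ab).Normal := Subgroup.sSup_normal _ fun _ h => h.1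
      refine ⟨⟨π (ι h), ⟨ι h, h.2, rfl⟩⟩ * k * ⟨π (ι h), ⟨ι h, h.2, rfl⟩⟩⁻¹, hn'.conj_mem k hk _, ?_⟩
      rw [map_mul, map_mul, map_inv, map_mul, map_mul, map_inv]
      show π (ι h) * _ * (π (ι h))⁻¹ = _
      rw [hke]
      simp only [map_mul, map_inv]
  have hNp : IsPGroup p N := by
    intro g
    obtain ⟨k, hk⟩ := hKp ⟨_, g.2.2⟩
    refine ⟨k + 1, Subtype.ext (Subtype.ext (MulEquiv.ext fun x => ?_))⟩
    set g' : A := (g : A) ^ p ^ k with hg'
    have hg'M : ∀ m ∈ M, (g' : MulAut J) m = m := (N.pow_mem g.2 _).1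
    have h1 : π (ι g') = 1 := by
      rw [hg', map_pow, map_pow]
      simpa using congrArg Subtype.val hk
    have h2 : x⁻¹ * (g' : MulAut J) x ∈ M :=
      QuotientGroup.eq.1 (DFunLike.congr_fun h1 (x : J ⧸ M)).symm
    set z := x⁻¹ * (g' : MulAut J) x with hz
    have h3 : ∀ l : ℕ, ((g' : MulAut J) ^ l) x = x * z ^ l := by
      intro l
      induction l with
      | zero => simp
      | succ l ih =>
        rw [pow_succ', MulAut.mul_apply, ih, map_mul, map_pow, hg'M z h2, pow_succ', ← mul_assoc x,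
          hz, mul_inv_cancel_left]
    have h4 := h3 p
    rw [(hMZ h2).2, mul_one, hg', Subgroup.coe_pow, ← pow_mul, ← pow_succ] at h4
    simpa using h4
  refine ⟨⟨t, hTA ht⟩, le_pCore_of_normal hN hNp ⟨hTM t ht, ?_⟩, rfl⟩
  exact hq _ ⟨⟨t, hAX (hTA ht)⟩, ht, rfl⟩

end Cfsg.Agent.FpfFusion
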