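import Mathlib
import Cfsg.Agent.Lib.Fusion.Alperin
import Cfsg.Agent.Lib.Fusion.Normal

/-!
A prime dividing no automizer of a centric radical subgroup divides no automizer at all, when it is
prime to the order of every automorphism group `Aut_F(R)` of those subgroups.
-/

set_option autoImplicit false

namespace Cfsg.Agent.FpfFusion

open Cfsg Cfsg.FusionSystem Cfsg.Agent.Fusion.Basic Cfsg.Agent.Fusion.Saturation
  Cfsg.Agent.Fusion.Normal

variable {Ω : Type*} [Group Ω] {S : Subgroup Ω} [Finite S] {F : FusionSystem S} {p : ℕ}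
  [Fact p.Prime]

/-- An automorphism that extends to an invariant overgroup has order dividing the order of its
automizer. -/
theorem orderOf_dvd_of_extend {P R : Subgroup Ω} {θ : Ω → Ω} (hθ : IsMap F R θ) (hPR : P ≤ R)
    (hR : ∀ x ∈ R, θ x ∈ R) (β : MulAut P) (he : ∀ x ∈ P, θ x = autFun β x) :
    orderOf β ∣ Nat.card (F.autGroup R) := by
  have : Finite R := finite_of_le hθ.le
  obtain ⟨γ, hγ, hγe⟩ := hθ.exists_aut (eq_of_le_card (img_le hR) hθ.card_img.ge)
  have hpow : ∀ (k : ℕ), ∀ x ∈ P, autFun (γ ^ k) x = autFun (β ^ k) x := by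
    intro k
    induction k with
    | zero => intro x _; rw [pow_zero, pow_zero, autFun_one, autFun_one]
    | succ k ih =>
      intro x hx
      rw [pow_succ', pow_succ', autFun_mul, autFun_mul, ih x hx,
        hγe _ (hPR (autFun_mem _ hx)), he _ (autFun_mem _ hx)]
  refine dvd_trans (orderOf_dvd_of_pow_eq_one (autFun_ext fun x hx => ?_))
    (Subgroup.orderOf_dvd_natCard _ hγ)
  rw [← hpow _ x hx, pow_orderOf_eq_one, autFun_one, autFun_one]

set_option maxHeartbeats 1000000 in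
/-- A prime not dividing the order of the automizer of a centric radical subgroup divides the order
of no automizer. -/
theorem not_dvd_autGroup (hS : IsPGroup p S) (hF : F.IsSaturated p) {r : ℕ} (hr : r.Prime)
    (hcr : ∀ R : Subgroup Ω, F.IsCentric R → F.IsRadical p R → ¬ r ∣ Nat.card (F.autGroup R))
    (P : Subgroup Ω) (hP : P ≤ S) : ¬ r ∣ Nat.card (F.autGroup P) := by
  induction hn : Nat.card S - Nat.card P using Nat.strong_induction_on generalizing P with
  | _ n ih =>
  intro hdvd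
  haveI : Fact r.Prime := ⟨hr⟩
  obtain ⟨Q, hPQ, hQ⟩ := exists_fullyNormalized (F := F) hP
  have hcard : Nat.card Q = Nat.card P := isConj_card hPQ
  obtain ⟨f, hf, rfl⟩ := isConj_iff_map.1 hPQ
  obtain ⟨e, -⟩ := hf.exists_autEquiv
  set Q := img f P with hQdef
  have hQS : Q ≤ S := hQ.1
  have : Finite Q := finite_of_le hQS
  rw [Nat.card_congr e.toEquiv] at hdvd
  obtain ⟨⟨β, hβ⟩, hord⟩ := exists_prime_orderOf_dvd_card' r hdvd
  have hord' : orderOf β = r := by rw [← hord, Subgroup.orderOf_mk]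
  have hm : IsMap F Q (autFun β) := isMap_of_mem_autGroup hQS hβ
  have hfc := fullyNormalized_fullyCentralized hS hF hQ
  obtain ⟨θ, hθ, hθe⟩ := exists_extension hS hF hm (by rw [autFun_img]; exact hfc)
  have hθQ : img θ Q = Q := by rw [img_congr hθe, autFun_img]
  have step : ∀ R : Subgroup Ω, Q < R → R ≤ nSub S Q (autFun β) → (∀ x ∈ R, θ x ∈ R) → False := by
    intro R hQR hR hinv
    have hθR := hθ.restrict hR
    have : Finite R := finite_of_le hθR.le
    have h1 := card_lt_card hQR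
    have h2 := card_le_card hθR.le
    exact ih (Nat.card S - Nat.card R) (by omega) R hθR.le rfl
      (hord' ▸ orderOf_dvd_of_extend hθR hQR.le hinv β hθe)
  by_cases hC : centralizerIn S Q ≤ Q
  · have hc : F.IsCentric Q := centric_of_fullyCentralized hS hF hfc hC
    by_cases hrad : F.IsRadical p Q
    · exact hcr Q hc hrad hdvd
    set A := F.autGroup Q
    set O := (pCore p A).map A.subtype with hO
    obtain ⟨Sy, hSy⟩ := (fullyNormalized_fullyAutomized hS hF hQ).2
    have hpn : (pCore p A).Normal := Subgroup.sSup_normal _ fun _ h => h.1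
    have hpp : IsPGroup p (pCore p A) := pCore_isPGroup p A
    have hOT : O ≤ autInducedBy S Q := by
      rintro _ ⟨a, ha, rfl⟩
      have h1 := hpp.le_sylow_of_normal Sy ha
      rw [hSy] at h1
      exact h1
    have hInn : Inn Q ≤ O := by
      intro a ha
      refine ⟨⟨a, inn_le_autGroup hQS ha⟩, ?_, rfl⟩
      have hnorm : ((Inn Q).subgroupOf A).Normal := Fusion.Alperin.inn_normal F Q
      have hp' : IsPGroup p ((Inn Q).subgroupOf A) := by
        refine IsPGroup.comap_of_injective ?_ _ Subtype.val_injective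
        exact (hS.to_le hQS).of_surjective _ (MulAut.conj : Q →* MulAut Q).rangeRestrict_surjective
      have hle : (Inn Q).subgroupOf A ≤ pCore p A :=
        le_sSup (show (Inn Q).subgroupOf A ∈ {N : Subgroup A | N.Normal ∧ IsPGroup p N} from ⟨hnorm, hp'⟩)
      exact hle (Subgroup.mem_subgroupOf.2 ha)
    obtain ⟨o, hoO, hoI⟩ : ∃ o ∈ O, o ∉ Inn Q := by
      by_contra h
      push Not at h
      exact hrad ⟨hQS, le_antisymm h hInn⟩
    let R : Subgroup Ω := (O.comap (conjAut S Q)).map (normalizerIn S Q).subtype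
    have hmemR : ∀ {g : Ω}, g ∈ R ↔ ∃ hg : g ∈ normalizerIn S Q, conjAut S Q ⟨g, hg⟩ ∈ O := by
      intro g
      constructor
      · rintro ⟨⟨y, hy⟩, hyO, rfl⟩
        exact ⟨hy, hyO⟩
      · rintro ⟨hg, h⟩
        exact ⟨⟨g, hg⟩, h, rfl⟩
    have hQR : Q ≤ R := fun g hg => hmemR.2 ⟨le_normalizerIn hQS hg, hInn (mem_inn_iff.2
      ⟨g, hg, fun x hx => conjAut_apply _ hx⟩)⟩
    obtain ⟨g, hg, hge⟩ := mem_autInducedBy_iff'.1 (hOT hoO)
    have hgo : conjAut S Q ⟨g, hg⟩ = o := autFun_ext fun x hx => by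
      rw [conjAut_apply ⟨g, hg⟩ hx, hge x hx]
    have hlt : Q < R := SetLike.lt_iff_le_and_exists.2 ⟨hQR, g, hmemR.2 ⟨hg, hgo ▸ hoO⟩, fun hgQ =>
      hoI (mem_inn_iff.2 ⟨g, hgQ, hge⟩)⟩
    have hconj : ∀ o ∈ O, β * o * β⁻¹ ∈ O := by
      rintro _ ⟨a, ha, rfl⟩
      exact ⟨⟨β, hβ⟩ * a * ⟨β, hβ⟩⁻¹, hpn.conj_mem a ha _, rfl⟩
    have hRsub : R ≤ nSub S Q (autFun β) := by
      intro g hg
      obtain ⟨hgN, hgO⟩ := hmemR.1 hg
      obtain ⟨h, hh, hhe⟩ := mem_autInducedBy_iff'.1 (hOT (hconj _ hgO))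
      refine mem_nSub.2 ⟨hgN.1, hgN.2, h, hh.1, fun x hx => ?_⟩
      have h1 := hhe _ (autFun_mem β hx)
      rw [autFun_mul, autFun_mul, autFun_inv_apply, conjAut_apply ⟨g, hgN⟩ hx] at h1
      exact h1
    refine step R hlt hRsub fun g hg => ?_
    obtain ⟨hgN, hgO⟩ := hmemR.1 hg
    have hgnS := hRsub hg
    have hθg : θ g ∈ normalizerIn S Q := ⟨hθ.mem hgnS, by
      have h1 := hθ.mem_normalizer_img (le_nSub hm) hgnS hgN.2
      rwa [hθQ] at h1⟩
    refine hmemR.2 ⟨hθg, ?_⟩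
    rw [show conjAut S Q ⟨θ g, hθg⟩ = β * conjAut S Q ⟨g, hgN⟩ * β⁻¹ from autFun_ext fun x hx => ?_]
    · exact hconj _ hgO
    rw [conjAut_apply ⟨θ g, hθg⟩ hx, autFun_mul, autFun_mul, conjAut_apply ⟨g, hgN⟩ (autFun_mem _ hx)]
    have hz := autFun_mem β⁻¹ hx
    have h2 : cj g (autFun β⁻¹ x) ∈ Q := (Subgroup.mem_normalizer_iff.1 hgN.2 _).1 hz
    rw [← hθe _ h2, cj_apply, cj_apply, hθ.map_conj hgnS (le_nSub hm hz), hθe _ hz, autFun_apply_inv]
  · refine step (Q ⊔ centralizerIn S Q) (left_lt_sup.2 hC) (sup_le (le_nSub hm) centralizerIn_le_nSub) ?_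
    intro x hx
    have hθR : IsMap F (Q ⊔ centralizerIn S Q) θ :=
      hθ.restrict (sup_le (le_nSub hm) centralizerIn_le_nSub)
    have h1 : img θ (Q ⊔ centralizerIn S Q) ≤ Q ⊔ centralizerIn S Q := by
      rw [hθR.img_sup, hθQ]
      refine sup_le_sup_left ?_ _
      have h2 := hθ.img_centralizerIn_le (le_nSub hm) centralizerIn_le_nSub
      rwa [hθQ] at h2
    exact h1 (mem_img_self θ hx)

end Cfsg.Agent.FpfFusion
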